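import Cfsg.Agent.H620.PNorm
import Cfsg.Agent.H620.SporCrit
import Cfsg.Agent.H419.Spor.M11
import Cfsg.Agent.H419.Spor.M22
import Cfsg.Agent.H464.PermIrr
import Cfsg.Agent.H417.DegMTwentyThree
import Cfsg.Agent.H723.Spor.MOrders
import Cfsg.Agent.SporadicA.MathieuRecog
import Cfsg.Agent.SporadicA.M24Trans
import Cfsg.Agent.SporadicA.DegreePrime
import Cfsg.Agent.UGT.End.MEleven

/-!
# `VOrdP 3` for the Mathieu groups `M11`, `M22`, `M23`, `M24` (helper187)

Rows of `H620.PNRows.SporRows` (S4555, S4559).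

* `M11`, `M22`: characters of degree `45`; `M23`: a character of degree `1035`: `3`-defect zero;
* `M24`: the character of degree `252` (`2`-subsets minus points) vanishes at an element of order `3` without fixed
  points (`z ↦ 1 - 1 / z`).
-/

set_option autoImplicit false

namespace Cfsg.Agent.H187.PV.Mathieu3

open Cfsg Cfsg.Agent.H713 Cfsg.Agent.H620.PNorm Cfsg.Agent.H665.NoPQ Cfsg.Agent.H419.Row
open Cfsg.Agent.H419.Count Cfsg.Agent.H419.Spor.Mathieu
open scoped Pointwise

universe u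

instance fact_3 : Fact (Nat.Prime 3) := ⟨Nat.prime_three⟩

/-- `VOrdP` from a character of defect zero. -/
theorem vOrdP_of_dz {K : Type*} [Group K] [Finite K] {p : ℕ} [hp : Fact p.Prime] (h : HasDZ p K)
    (hd : p ∣ Nat.card K) : VOrdP p K := by
  obtain ⟨x, hx⟩ := exists_prime_orderOf_dvd_card' (G := K) p hd
  exact ⟨x, hx, Cfsg.Agent.H713.HasDZ.vz h (by rw [hx])⟩

theorem m11_3 {K : Type u} [Group K] (h : Spor.IsoM11 K) : VOrdP 3 K := by
  have h1 : Cfsg.IsM11 K := Cfsg.Agent.UGT.End.MEleven.isM11 h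
  have hfin : Finite K := Nat.finite_of_card_ne_zero (by rw [h1.2]; norm_num)
  exact vOrdP_of_dz (Cfsg.Agent.H419.Spor.M11.dz_three h1) (by rw [h1.2]; norm_num)

theorem m22_3 {K : Type u} [Group K] (h : Spor.IsoM22 K) : VOrdP 3 K := by
  obtain ⟨e⟩ := h
  have hM : Cfsg.IsM22 Spor.M22 :=
    ⟨Cfsg.Agent.SporadicA.MathieuRecog.simple_M22, Cfsg.Agent.SporadicA.MathieuRecog.card_M22⟩
  have hfin : Finite Spor.M22 := Nat.finite_of_card_ne_zero (by rw [hM.2]; norm_num)
  exact (vOrdP_of_dz (Cfsg.Agent.H419.Spor.M22.dz_three hM) (by rw [hM.2]; norm_num)).mulEquiv e.symm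

theorem simple_m23 : IsSimpleGroup Spor.M23 := by
  let _ := Cfsg.Agent.SporadicA.MathieuRecog.act23
  have _ := Cfsg.Agent.SporadicA.MathieuRecog.act23_faithful
  refine Cfsg.Agent.SporadicA.DegreePrime.isSimpleGroup_of_card_degree23
    (Ω := Cfsg.Agent.SporadicA.MathieuRecog.Pt23) ?_ Cfsg.Agent.SporadicA.MathieuRecog.card_M23
  rw [Nat.card_eq_fintype_card]
  decide +kernel

theorem m23_3 {K : Type u} [Group K] (h : Spor.IsoM23 K) : VOrdP 3 K := by
  obtain ⟨e⟩ := h
  have hM : Cfsg.IsM23 Spor.M23 :=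
    ⟨simple_m23, Cfsg.Agent.SporadicA.MathieuRecog.card_M23⟩
  have hcard : Nat.card Spor.M23 = 10200960 := hM.2
  have hfin : Finite Spor.M23 := Nat.finite_of_card_ne_zero (by rw [hcard]; norm_num)
  obtain ⟨hs, H, z, v, a, b, c, d, g, h, b₁, c₁, K⟩ := Cfsg.Agent.H417.DegMTwentyThree.exists_elev' hM
  have hd : charDegree (d : Spor.M23 → ℂ) = 1035 := K.dgd
  have hdz : HasDZ 3 Spor.M23 := dz_of_dvd (n := 2) d (by rw [hd]; norm_num)
    (factorization_eq (m := 1133440) Nat.prime_three (by rw [hcard]; norm_num) (by norm_num)) Nat.prime_three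
  exact (vOrdP_of_dz hdz (by rw [hcard]; norm_num)).mulEquiv e.symm

/-! ### `M24` -/

/-- `z ↦ 1 - 1 / z` -/
noncomputable def x3 : M24 := ⟨T * projInv, mul_mem T_mem Cfsg.Agent.H723.Spor.MOrders.J_mem⟩

theorem x3_order : orderOf x3 = 3 := by
  refine orderOf_eq_prime ?_ ?_
  · apply Subtype.ext
    show (T * projInv) ^ 3 = 1
    apply Equiv.ext
    decide +kernel
  · intro h
    have h1 : T * projInv = 1 := congrArg Subtype.val h
    have h2 := Equiv.ext_iff.1 h1
    revert h2
    decide +kernel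

theorem x3_fix (a : GolayPt) : x3 • a ≠ a := by
  have h : ∀ a : GolayPt, (T * projInv) a ≠ a := by decide +kernel
  exact h a

theorem x3_cube (a : GolayPt) : x3 • x3 • x3 • a = a := by
  have h : x3 ^ 3 = 1 := by
    rw [← x3_order]
    exact pow_orderOf_eq_one x3
  rw [← mul_smul, ← mul_smul, ← pow_three', h, one_smul]

theorem van_x3 : Van M24 x3 := by
  have h5 := Cfsg.Agent.S0366.result
  have h4 : MulAction.IsMultiplyPretransitive M24 GolayPt 4 :=
    MulAction.isMultiplyPretransitive_of_le (n := 5) (by norm_num) (by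
      rw [Nat.card_eq_fintype_card]
      decide)
  have hfin : Finite M24 := Nat.finite_of_card_ne_zero (by
    rw [Cfsg.Agent.SporadicA.M24Trans.card_M24]; norm_num)
  have hirr := Cfsg.Agent.H464.PermIrr.irr_pairs M24 (Ω := GolayPt) (by
    rw [Nat.card_eq_fintype_card]; decide) (by
    rw [Nat.card_eq_fintype_card]; decide)
  refine ⟨⟨_, hirr⟩, ?_⟩
  have h1 : Nat.card (MulAction.fixedBy GolayPt x3) = 0 := by
    rw [Nat.card_eq_zero]
    exact Or.inl ⟨fun a => x3_fix a a.2⟩
  have h2 : Nat.card (MulAction.fixedBy (Set.powersetCard GolayPt 2) x3) = 0 := by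
    rw [Nat.card_eq_zero]
    refine Or.inl ⟨fun s => ?_⟩
    obtain ⟨⟨s, hs⟩, hfix⟩ := s
    have hs2 : s.card = 2 := hs
    have hfix' : x3 • s = s := congrArg Subtype.val hfix
    obtain ⟨a, b, hab, rfl⟩ := Finset.card_eq_two.1 hs2
    rw [Finset.smul_finset_insert, Finset.smul_finset_singleton] at hfix'
    have ha : x3 • a ∈ ({a, b} : Finset GolayPt) := by
      rw [← hfix']; simp
    have hb : x3 • b ∈ ({a, b} : Finset GolayPt) := by
      rw [← hfix']; simp
    simp only [Finset.mem_insert, Finset.mem_singleton] at ha hb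
    rcases ha with ha | ha
    · exact x3_fix a ha
    rcases hb with hb | hb
    · have h3 := x3_cube a
      rw [ha, hb, ha] at h3
      exact hab h3.symm
    · exact x3_fix b hb
  show (Nat.card (MulAction.fixedBy (Set.powersetCard GolayPt 2) x3) : ℂ) -
    (Nat.card (MulAction.fixedBy GolayPt x3) : ℂ) = 0
  rw [h1, h2]
  simp

theorem m24_3 {K : Type u} [Group K] (h : Spor.IsoM24 K) : VOrdP 3 K := by
  obtain ⟨e⟩ := h
  have hfin : Finite M24 := Nat.finite_of_card_ne_zero (by
    rw [Cfsg.Agent.SporadicA.M24Trans.card_M24]; norm_num)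
  have h1 : VOrdP 3 M24 :=
    ⟨x3, x3_order, vz_of_inner van_x3 fun α => Cfsg.Agent.KFacts.M24Two.Out.exists_conj α⟩
  exact h1.mulEquiv e.symm

end Cfsg.Agent.H187.PV.Mathieu3
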